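import Groth.Agent.L25.GeomRed
import Groth.Agent.L25.GrpDeriv
import Groth.Agent.L08.SubgroupObj
import Groth.Prelude.Def_AlgGrp
import Groth.Agent.L18.KerReduced

/-!
# The reduced subgroup over a perfect field
-/

set_option autoImplicit false
set_option backward.isDefEq.respectTransparency.types false
set_option linter.style.haveILetI false
set_option linter.unusedSectionVars false

universe u

open CategoryTheory CategoryTheory.Limits MonoidalCategory CartesianMonoidalCategory MonObj AlgebraicGeometry

noncomputable section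

namespace Groth.L08.Rosen

variable {k : Type u} [Field k]

/-- a scheme has a surjective closed immersion from a reduced one -/
theorem exists_red_cover (X : Over (Spec (CommRingCat.of k))) :
    ∃ (R : Over (Spec (CommRingCat.of k))) (r : R ⟶ X),
      IsClosedImmersion r.left ∧ Surjective r.left ∧ IsReduced R.left := by
  let I := Scheme.IdealSheafData.vanishingIdeal (⊤ : TopologicalSpace.Closeds X.left)
  refine ⟨Over.mk (I.subschemeι ≫ X.hom), Over.homMk I.subschemeι rfl, inferInstanceAs (IsClosedImmersion I.subschemeι),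
    ⟨fun x => ?_⟩, Groth.L18.isReduced_vanishingIdeal_subscheme _⟩
  show x ∈ Set.range I.subschemeι
  rw [I.range_subschemeι, Scheme.IdealSheafData.coe_support_vanishingIdeal]
  trivial

/-- morphisms from reduced schemes factor through a surjective closed immersion -/
theorem exists_factor_red {T R X : Over (Spec (CommRingCat.of k))} [IsReduced T.left] (r : R ⟶ X)
    [IsClosedImmersion r.left] [Surjective r.left] (m : T ⟶ X) : ∃ m' : T ⟶ R, m' ≫ r = m := by
  obtain ⟨m', hm'⟩ := Groth.L25.GeomRed.exists_factor r.left m.left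
  exact ⟨Over.homMk m' (by rw [← Over.w r, reassoc_of% hm', Over.w m]), Over.OverMorphism.ext hm'⟩

theorem isReduced_tensor [PerfectField k] (A B : Over (Spec (CommRingCat.of k))) [IsReduced A.left] [IsReduced B.left] :
    IsReduced (A ⊗ B).left :=
  Groth.L25.GeomRed.isReduced_pullback A.hom B.hom

/-- the reduced subgroup of a normal subgroup over a perfect field -/
theorem exists_red_subgroup [PerfectField k] {N G : Over (Spec (CommRingCat.of k))} [GrpObj N] [GrpObj G]
    [LocallyOfFiniteType G.hom] [IsReduced G.left] (j : N ⟶ G) [IsMonHom j] [IsClosedImmersion j.left]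
    (hN : AlgGrp.IsNormalHom j) :
    ∃ (R : Over (Spec (CommRingCat.of k))) (_ : GrpObj R) (r : R ⟶ N), IsMonHom (r ≫ j) ∧
      IsClosedImmersion r.left ∧ Surjective r.left ∧ IsReduced R.left ∧ Smooth R.hom ∧
      AlgGrp.IsNormalHom (r ≫ j) := by
  obtain ⟨R, r, _, _, _⟩ := exists_red_cover N
  haveI : IsClosedImmersion (r ≫ j).left := inferInstanceAs (IsClosedImmersion (r.left ≫ j.left))
  haveI : Mono (r ≫ j) := Over.mono_of_mono_left _
  haveI : IsReduced (R ⊗ R).left := isReduced_tensor R R
  haveI : IsReduced (𝟙_ (Over (Spec (CommRingCat.of k)))).left := inferInstanceAs (IsReduced (Spec (CommRingCat.of k)))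
  obtain ⟨gR, hR⟩ := Groth.L08.exists_grpObj_of_mono (r ≫ j)
    (by
      obtain ⟨z, hz⟩ := exists_factor_red r η[N]
      exact ⟨z, by rw [reassoc_of% hz, IsMonHom.one_hom]⟩)
    (by
      obtain ⟨z, hz⟩ := exists_factor_red r ((fst R R ≫ r) * (snd R R ≫ r))
      exact ⟨z, by rw [reassoc_of% hz, MonObj.mul_comp, Category.assoc, Category.assoc]⟩)
    (by
      obtain ⟨z, hz⟩ := exists_factor_red r r⁻¹
      exact ⟨z, by rw [reassoc_of% hz, GrpObj.inv_comp]⟩)
  haveI : LocallyOfFiniteType R.hom := by rw [← Over.w (r ≫ j)]; infer_instance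
  refine ⟨R, gR, r, hR, ‹_›, ‹_›, ‹_›, ?_, fun T g b => ?_⟩
  · letI : GrpObj (Over.mk R.hom) := gR
    exact Groth.L25.GrpDeriv.smooth_of_perfectField R.hom
  · haveI : IsReduced (G ⊗ R).left := isReduced_tensor G R
    obtain ⟨c, hc⟩ := hN _ (fst G R) (snd G R ≫ r)
    obtain ⟨c', hc'⟩ := exists_factor_red r c
    refine ⟨lift g b ≫ c', ?_⟩
    have h := congrArg (fun m => lift g b ≫ m) hc
    simp only [MonObj.comp_mul, GrpObj.comp_inv, lift_fst, lift_snd_assoc, Category.assoc] at h
    rw [h, ← hc']
    simp only [Category.assoc]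

end Groth.L08.Rosen
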