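import Groth.Agent.L08.Rosen.AbSub
import Groth.Agent.L08.Rosen.RedSub
import Groth.Agent.L08.AbelianGrp
import Groth.Agent.L08.FlatHom
import Groth.Agent.L08.Cube.MulSurj
import Groth.Agent.L26.Weil.AxesField
import Groth.Agent.L26.AV.Isogeny

/-!
# Almost complements of abelian subvarieties
-/

set_option autoImplicit false
set_option backward.isDefEq.respectTransparency.types false
set_option linter.style.haveILetI false
set_option linter.unusedSectionVars false

universe u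

open CategoryTheory CategoryTheory.Limits MonoidalCategory CartesianMonoidalCategory MonObj GrpObj AlgebraicGeometry

noncomputable section

namespace Groth.L08.Rosen

variable {k : Type u} [Field k] {G A : Over (Spec (CommRingCat.of k))} [GrpObj G] [GrpObj A]

/-- a homomorphism to the subvariety which is a power on it -/
theorem exists_hom_abSub [LocallyOfFiniteType G.hom] [QuasiCompact G.hom] [Smooth G.hom] [ConnectedSpace G.left]
    (i : A ⟶ G) [IsMonHom i] [IsClosedImmersion i.left] [Smooth A.hom] [ConnectedSpace A.left] [IsProper A.hom] :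
    ∃ (ψ : G ⟶ A) (n : ℕ), IsMonHom ψ ∧ 0 < n ∧ i ≫ ψ = 𝟙 A ^ n := by
  haveI := Groth.L08.Albanese.geometricallyIntegral_of_smooth A
  haveI := Groth.L08.Albanese.geometricallyIntegral_of_smooth G
  haveI : IsCommMonObj A := isCommMonObj_of_isProper_of_geometricallyIntegral A
  haveI : IsSeparated G.hom := Groth.Agent.AV.isSeparated_of_grpObj G
  obtain ⟨φ, n, hn, hφ⟩ := exists_map_abSub i
  let c : 𝟙_ _ ⟶ A := η[G] ≫ φ
  let ψ : G ⟶ A := φ * (toUnit G ≫ c)⁻¹
  have hψ : ∀ (T : Over (Spec (CommRingCat.of k))) (g : T ⟶ G) (a : T ⟶ A),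
      (g * (a ≫ i)) ≫ ψ = (g ≫ ψ) * a ^ n := fun T g a => by
    simp only [ψ, MonObj.comp_mul, GrpObj.comp_inv, hφ, ← Category.assoc,
      toUnit_unique ((g * (a ≫ i)) ≫ toUnit G) (g ≫ toUnit G)]
    exact mul_right_comm _ _ _
  have hone : η[G] ≫ ψ = 1 := by
    simp only [ψ, MonObj.comp_mul, GrpObj.comp_inv, ← Category.assoc,
      toUnit_unique (η[G] ≫ toUnit G) (𝟙 _), Category.id_comp]
    exact mul_inv_cancel _
  let d : G ⊗ G ⟶ A := ((fst G G * snd G G) ≫ ψ) * ((fst G G ≫ ψ) * (snd G G ≫ ψ))⁻¹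
  have h1 : ∀ (T : Over (Spec (CommRingCat.of k))) (g : T ⟶ G), (1 : T ⟶ G) ≫ ψ = 1 := fun T g => by
    rw [Hom.one_def, Category.assoc, hone, MonObj.comp_one]
  have hd : d = 1 := by
    refine Groth.L26.Weil.eq_one_of_axes d η[G] η[G] ?_ ?_
    · simp only [d, MonObj.comp_mul, GrpObj.comp_inv, MonObj.comp_mul, ← Category.assoc, lift_fst, lift_snd]
      rw [← Hom.one_def, h1 G (𝟙 G)]
      simp
    · simp only [d, MonObj.comp_mul, GrpObj.comp_inv, MonObj.comp_mul, ← Category.assoc, lift_fst, lift_snd]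
      rw [← Hom.one_def, h1 G (𝟙 G)]
      simp
  haveI : IsMonHom ψ := by
    refine ⟨hone.trans (by rw [Hom.one_def, toUnit_unique (toUnit (𝟙_ _)) (𝟙 _), Category.id_comp]), ?_⟩
    have e1 : μ[G] = fst G G * snd G G := by
      rw [Hom.mul_def, lift_fst_snd, Category.id_comp]
    have e2 : (ψ ⊗ₘ ψ) ≫ μ[A] = (fst G G ≫ ψ) * (snd G G ≫ ψ) := by
      rw [Hom.mul_def]
      congr 1
    rw [e1, e2]
    exact mul_inv_eq_one.1 hd
  refine ⟨ψ, n, ‹_›, hn, ?_⟩
  have h := hψ A 1 (𝟙 A)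
  rw [Category.id_comp, _root_.one_mul, h1 A 1, _root_.one_mul] at h
  exact h

/-- a kernel up to reduced sources gives an almost complement -/
theorem compl_props [IsReduced G.left] [GeometricallyIntegral A.hom] [IsProper A.hom]
    [LocallyOfFiniteType G.hom] [ConnectedSpace G.left]
    [Smooth A.hom] [ConnectedSpace A.left]
    (i : A ⟶ G) [IsMonHom i] [IsClosedImmersion i.left] (ψ : G ⟶ A) [IsMonHom ψ] (n : ℕ) (hn : 0 < n)
    (hiψ : i ≫ ψ = 𝟙 A ^ n) {N : Over (Spec (CommRingCat.of k))} [GrpObj N] (j : N ⟶ G) [IsMonHom j]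
    [IsClosedImmersion j.left] (hj : j ≫ ψ = 1)
    (hfac : ∀ (T : Over (Spec (CommRingCat.of k))) [IsReduced T.left] (h : T ⟶ G), h ≫ ψ = 1 → ∃ z, z ≫ j = h) :
      (∀ (T : Over (Spec (CommRingCat.of k))) (a : T ⟶ A) (n : T ⟶ N), (a ≫ i) * (n ≫ j) = (n ≫ j) * (a ≫ i)) ∧
      Flat ((i ⊗ₘ j) ≫ μ[G]).left ∧ Surjective ((i ⊗ₘ j) ≫ μ[G]).left ∧
      IsFinite (Limits.pullback.fst i.left j.left ≫ A.hom) := by
  have hcomm : ∀ (T : Over (Spec (CommRingCat.of k))) (a : T ⟶ A) (m : T ⟶ N),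
      (a ≫ i) * (m ≫ j) = (m ≫ j) * (a ≫ i) := fun T a m => commute_proper i (m ≫ j) a
  have hpw := Groth.L08.Cube.surjective_pow (A := A) (n := n) hn
  have hm : (i ⊗ₘ j) ≫ μ[G] = (fst A N ≫ i) * (snd A N ≫ j) := by
    rw [Hom.mul_def]
    congr 1
  haveI : IsMonHom ((i ⊗ₘ j) ≫ μ[G]) := by
    rw [hm]
    refine ⟨?_, ?_⟩
    · rw [MonObj.comp_mul, reassoc_of% (IsMonHom.one_hom (f := fst A N)), reassoc_of% (IsMonHom.one_hom (f := snd A N)),
        IsMonHom.one_hom, IsMonHom.one_hom]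
      rw [show η[G] = (1 : 𝟙_ (Over (Spec (CommRingCat.of k))) ⟶ G) by
        rw [Hom.one_def, toUnit_unique (toUnit (𝟙_ _)) (𝟙 _), Category.id_comp]]
      exact _root_.one_mul _
    · rw [MonObj.comp_mul, reassoc_of% (IsMonHom.mul_hom (f := fst A N)), reassoc_of% (IsMonHom.mul_hom (f := snd A N))]
      rw [show μ[A] = fst A A * snd A A by rw [Hom.mul_def, lift_fst_snd, Category.id_comp],
        show μ[N] = fst N N * snd N N by rw [Hom.mul_def, lift_fst_snd, Category.id_comp],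
        show μ[G] = fst G G * snd G G by rw [Hom.mul_def, lift_fst_snd, Category.id_comp]]
      simp only [MonObj.comp_mul, MonObj.mul_comp, tensorHom_fst, tensorHom_fst_assoc, tensorHom_snd,
        tensorHom_snd_assoc, Category.assoc]
      have hh := hcomm _ (snd (A ⊗ N) (A ⊗ N) ≫ fst A N) (fst (A ⊗ N) (A ⊗ N) ≫ snd A N)
      simp only [Category.assoc] at hh
      simp only [_root_.mul_assoc, ← _root_.mul_assoc (snd (A ⊗ N) (A ⊗ N) ≫ fst A N ≫ i), hh]
  obtain ⟨P, r, hrc, hrs, hrr⟩ := exists_red_cover (Limits.pullback (𝟙 A ^ n) ψ)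
  haveI := hrr
  let a : P ⟶ A := r ≫ pullback.fst (𝟙 A ^ n) ψ
  let g : P ⟶ G := r ≫ pullback.snd (𝟙 A ^ n) ψ
  have hag : a ^ n = g ≫ ψ := by
    calc a ^ n = a ≫ (𝟙 A ^ n) := by rw [MonObj.comp_pow, Category.comp_id]
      _ = g ≫ ψ := by simp only [a, g, Category.assoc, pullback.condition]
  obtain ⟨z, hz⟩ := hfac P ((a ≫ i)⁻¹ * g) (by
    rw [MonObj.mul_comp, GrpObj.inv_comp, Category.assoc, hiψ, MonObj.comp_pow, Category.comp_id, hag,
      inv_mul_cancel])
  haveI hsurj : Surjective ((i ⊗ₘ j) ≫ μ[G]).left := by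
    haveI : Surjective g.left := by
      haveI : Surjective (pullback.snd (𝟙 A ^ n) ψ).left :=
        MorphismProperty.of_isPullback (P := @Surjective)
          ((IsPullback.of_hasPullback (𝟙 A ^ n) ψ).map (Over.forget _)) hpw
      haveI := hrs
      exact inferInstanceAs (Surjective (r.left ≫ (pullback.snd (𝟙 A ^ n) ψ).left))
    have h : lift a z ≫ (i ⊗ₘ j) ≫ μ[G] = g := by
      rw [hm, MonObj.comp_mul, lift_fst_assoc, lift_snd_assoc, hz, mul_inv_cancel_left]
    haveI : Surjective ((lift a z).left ≫ ((i ⊗ₘ j) ≫ μ[G]).left) := by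
      rw [← Over.comp_left, h]; infer_instance
    exact Surjective.of_comp (lift a z).left _
  refine ⟨hcomm, Groth.L08.FlatHom.flat_of_surjective _ _ _, hsurj, ?_⟩
  haveI := Groth.L08.Cube.locallyQuasiFinite_pow (A := A) (n := n) hn
  haveI : IsProper (𝟙 A ^ n).left := by
    haveI : IsProper ((𝟙 A ^ n).left ≫ A.hom) := by rw [Over.w]; infer_instance
    exact IsProper.of_comp (𝟙 A ^ n).left A.hom
  haveI : IsFinite (𝟙 A ^ n).left := (IsFinite.iff_isProper_and_locallyQuasiFinite _).2 ⟨‹_›, ‹_›⟩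
  let t := Limits.pullback.fst i.left j.left
  have hw : t ≫ (𝟙 A ^ n).left = (t ≫ A.hom) ≫ η[A].left := by
    have h2 : (1 : N ⟶ A).left = N.hom ≫ η[A].left := by
      rw [Hom.one_def, Over.comp_left]; rfl
    calc t ≫ (𝟙 A ^ n).left = (t ≫ i.left) ≫ ψ.left := by rw [← hiψ, Over.comp_left, Category.assoc]
      _ = Limits.pullback.snd i.left j.left ≫ (j ≫ ψ).left := by rw [pullback.condition, Category.assoc, Over.comp_left]
      _ = _ := by
        rw [hj, h2, ← Category.assoc, ← Over.w j, ← Category.assoc, ← pullback.condition, Category.assoc t, Over.w i]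
  haveI : IsFinite (pullback.snd (𝟙 A ^ n).left η[A].left) := inferInstance
  haveI : IsClosedImmersion t := inferInstance
  haveI : IsClosedImmersion (pullback.lift t (t ≫ A.hom) hw ≫ pullback.fst (𝟙 A ^ n).left η[A].left) := by
    rw [pullback.lift_fst]; infer_instance
  haveI : IsClosedImmersion (pullback.lift t (t ≫ A.hom) hw) :=
    IsClosedImmersion.of_comp _ (pullback.fst (𝟙 A ^ n).left η[A].left)
  have e : t ≫ A.hom = pullback.lift t (t ≫ A.hom) hw ≫ pullback.snd (𝟙 A ^ n).left η[A].left :=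
    (pullback.lift_snd _ _ _).symm
  rw [e]; infer_instance

/-- **Almost complements of abelian subvarieties.** -/
theorem exists_compl [LocallyOfFiniteType G.hom] [QuasiCompact G.hom] [Smooth G.hom] [ConnectedSpace G.left]
    (i : A ⟶ G) [IsMonHom i] [IsClosedImmersion i.left] [Smooth A.hom] [ConnectedSpace A.left] [IsProper A.hom] :
    ∃ (N : Over (Spec (CommRingCat.of k))) (_ : GrpObj N) (j : N ⟶ G), IsMonHom j ∧ IsClosedImmersion j.left ∧
      AlgGrp.IsNormalHom j ∧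
      (∀ (T : Over (Spec (CommRingCat.of k))) (a : T ⟶ A) (n : T ⟶ N), (a ≫ i) * (n ≫ j) = (n ≫ j) * (a ≫ i)) ∧
      Flat ((i ⊗ₘ j) ≫ μ[G]).left ∧ Surjective ((i ⊗ₘ j) ≫ μ[G]).left ∧
      IsFinite (Limits.pullback.fst i.left j.left ≫ A.hom) ∧
      (PerfectField k → Smooth N.hom) := by
  haveI := Groth.L08.Albanese.geometricallyIntegral_of_smooth A
  haveI : IsReduced G.left := Groth.Agent.AV.isReduced_of_smooth_field G.hom
  obtain ⟨ψ, n, _, hn, hiψ⟩ := exists_hom_abSub i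
  obtain ⟨N, gN, j, _, _, -, hker⟩ := Groth.L08.AbelianGrp.exists_kernel ψ
  have hjψ : j ≫ ψ = 1 := by rw [hker.w, Hom.one_def]
  have hfac : ∀ (T : Over (Spec (CommRingCat.of k))) (h : T ⟶ G), h ≫ ψ = 1 → ∃ z, z ≫ j = h := fun T h hh => by
    obtain ⟨z, hz, -⟩ := hker.exists_lift h (toUnit T) (by rw [hh, Hom.one_def])
    exact ⟨z, hz⟩
  have hnorm : AlgGrp.IsNormalHom j := fun T g b => by
    obtain ⟨z, hz⟩ := hfac T (g * (b ≫ j) * g⁻¹) (by
      rw [MonObj.mul_comp, MonObj.mul_comp, GrpObj.inv_comp, Category.assoc, hjψ, MonObj.comp_one,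
        _root_.mul_one, mul_inv_cancel])
    exact ⟨z, hz.symm⟩
  by_cases hp : PerfectField k
  · haveI := hp
    obtain ⟨R, gR, r, _, _, _, _, hsm, hnR⟩ := exists_red_subgroup j hnorm
    haveI : IsClosedImmersion (r ≫ j).left := inferInstanceAs (IsClosedImmersion (r.left ≫ j.left))
    obtain ⟨h1, h2, h3, h4⟩ := compl_props i ψ n hn hiψ (r ≫ j)
      (by rw [Category.assoc, hjψ, MonObj.comp_one]) (fun T _ h hh => by
        obtain ⟨z, hz⟩ := hfac T h hh
        obtain ⟨z', hz'⟩ := exists_factor_red r z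
        exact ⟨z', by rw [reassoc_of% hz', hz]⟩)
    exact ⟨R, gR, r ≫ j, ‹_›, ‹_›, hnR, h1, h2, h3, h4, fun _ => hsm⟩
  · obtain ⟨h1, h2, h3, h4⟩ := compl_props i ψ n hn hiψ j hjψ (fun T _ h hh => hfac T h hh)
    exact ⟨N, gN, j, ‹_›, ‹_›, hnorm, h1, h2, h3, h4, fun h => absurd h hp⟩

end Groth.L08.Rosen
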