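import Groth.Agent.L08.Rosen.Main
import Groth.Agent.L08.Centre.Rigid
import Groth.Agent.L08.Albanese.AbSub
import Groth.Agent.L08.GQuot.Struct
import Groth.Agent.L08.GQuot.Field

/-!
# Abelian subvarieties of algebraic groups
-/

set_option autoImplicit false
set_option backward.isDefEq.respectTransparency.types false
set_option linter.style.haveILetI false
set_option linter.unusedSectionVars false

universe u

open CategoryTheory CategoryTheory.Limits MonoidalCategory CartesianMonoidalCategory MonObj GrpObj AlgebraicGeometry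

noncomputable section

namespace Groth.L08.Rosen

/-- left translation by a subgroup -/
def leftAct {S : Scheme.{u}} {A G : Over S} [GrpObj A] [GrpObj G] (i : A ⟶ G) [IsMonHom i] : AlgGrp.Action A G where
  act := (fst A G ≫ i) * snd A G
  one_act := by
    rw [MonObj.comp_mul, ← Category.assoc, whiskerRight_fst, whiskerRight_snd, Category.assoc, IsMonHom.one_hom]
    simp [← Hom.one_def, leftUnitor_hom, toUnit_unique (fst (𝟙_ (Over S)) G) (toUnit _)]
  mul_act := by
    have hmu : μ[A] ≫ i = (fst A A ≫ i) * (snd A A ≫ i) := by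
      rw [IsMonHom.mul_hom, Hom.mul_def]
      congr 1
    simp only [MonObj.comp_mul, whiskerRight_fst_assoc, whiskerRight_snd, whiskerLeft_fst_assoc, whiskerLeft_snd,
      hmu, Category.assoc, associator_hom_fst_assoc, associator_hom_snd_fst_assoc, associator_hom_snd_snd,
      _root_.mul_assoc]

variable {k : Type u} [Field k] {G A : Over (Spec (CommRingCat.of k))} [GrpObj G] [GrpObj A]

theorem commute_proper [LocallyOfFiniteType G.hom] [ConnectedSpace G.left] [Smooth A.hom] [ConnectedSpace A.left]
    [IsProper A.hom] (i : A ⟶ G) [IsMonHom i] {T : Over (Spec (CommRingCat.of k))} (g : T ⟶ G) (a : T ⟶ A) :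
    (a ≫ i) * g = g * (a ≫ i) := by
  haveI := Groth.L08.Albanese.geometricallyIntegral_of_smooth A
  haveI : Nonempty A.left := inferInstance
  have h := Centre.central (H := A) (G := G)
    (Groth.Agent.AV.surjective_appTop_geometric A.hom) i
  have h1 := congrArg (fun m => lift a g ≫ m) h
  simpa [MonObj.comp_mul] using h1

/-- **An abelian subvariety is a direct factor up to isogeny.** -/
theorem exists_map_abSub [LocallyOfFiniteType G.hom] [QuasiCompact G.hom] [Smooth G.hom] [ConnectedSpace G.left]
    (i : A ⟶ G) [IsMonHom i] [IsClosedImmersion i.left] [Smooth A.hom] [ConnectedSpace A.left] [IsProper A.hom] :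
    ∃ (φ : G ⟶ A) (n : ℕ), 0 < n ∧
      ∀ (T : Over (Spec (CommRingCat.of k))) (g : T ⟶ G) (a : T ⟶ A), (g * (a ≫ i)) ≫ φ = (g ≫ φ) * a ^ n := by
  haveI : Mono i := Over.mono_of_mono_left i
  have hN : AlgGrp.IsNormalHom i := fun T g n => ⟨n, by rw [← commute_proper i g n, mul_inv_cancel_right]⟩
  obtain ⟨Y, p, _, _, _, sqp⟩ := GQuot.exists_quotient_field i
  obtain ⟨X, q, _, _, _, sqq, hlft, -, hqc, hsm, hsep⟩ := GQuot.exists_struct p sqp
  obtain ⟨gX, hq, -⟩ := GQuot.exists_grp hN q sqq
  haveI := hlft inferInstance
  haveI := hqc inferInstance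
  haveI := hsm inferInstance
  haveI := hsep inferInstance
  haveI : ConnectedSpace X.left := q.left.surjective.connectedSpace q.left.continuous
  haveI := Groth.L08.Albanese.geometricallyIntegral_of_smooth X
  haveI := Groth.L08.Albanese.geometricallyIntegral_of_smooth G
  have hact : (leftAct i).act = (i ▷ G) ≫ μ[G] := by
    show (fst A G ≫ i) * snd A G = _
    rw [Hom.mul_def]
    congr 1
  have hinv : (leftAct i).act ≫ q = snd A G ≫ q := by rw [hact]; exact sqq.w
  have htors : IsIso (pullback.lift (leftAct i).act (snd A G) hinv) := by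
    have h : pullback.lift (leftAct i).act (snd A G) hinv = sqq.isoPullback.hom := pullback.hom_ext
      (by rw [pullback.lift_fst, IsPullback.isoPullback_hom_fst, hact])
      (by rw [pullback.lift_snd, IsPullback.isoPullback_hom_snd])
    rw [h]; infer_instance
  obtain ⟨φ, n, hn, hφ⟩ := exists_map (leftAct i) q hinv htors
  refine ⟨φ, n, hn, fun T g a => ?_⟩
  rw [← commute_proper i g a, ← hφ T a g, ← Category.assoc]
  congr 1
  show _ = lift a g ≫ ((fst A G ≫ i) * snd A G)
  rw [MonObj.comp_mul, lift_fst_assoc, lift_snd]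

end Groth.L08.Rosen
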