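import Groth.Agent.L08.Rosen.Map

/-!
# The morphism of a torsor to an abelian variety
-/

set_option autoImplicit false
set_option backward.isDefEq.respectTransparency.types false
set_option linter.style.haveILetI false
set_option linter.unusedSectionVars false

universe u

open CategoryTheory CategoryTheory.Limits MonoidalCategory CartesianMonoidalCategory MonObj GrpObj AlgebraicGeometry
open Groth.L08.Chev (SP spA spA_comp St ptSt exists_hom_St hom_ext_St KG ξ exists_emb)

noncomputable section

namespace Groth.L08.Rosen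

variable {k : Type u} [Field k] {A X Y : Over (Spec (CommRingCat.of k))} [GrpObj A]

/-- a surjective morphism maps the generic point to the generic point -/
theorem apply_genericPoint {V W : Scheme.{u}} [IrreducibleSpace V] [IrreducibleSpace W] (g : V ⟶ W) [Surjective g] :
    g (genericPoint V) = genericPoint W := by
  have h := (genericPoint_spec V).image g.continuous
  rw [Set.image_univ, g.surjective.range_eq, closure_univ] at h
  exact h.eq (genericPoint_spec W)

theorem ξ_generic (G : Over (Spec (CommRingCat.of k))) [AlgebraicGeometry.IsIntegral G.left] :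
    (ξ G).left (IsLocalRing.closedPoint (KG G)) = genericPoint G.left :=
  Groth.L08.Chev.ptSt_closedPoint G _

/-- the embedding of function fields of a surjective morphism -/
theorem exists_emb_of_surjective {V W : Over (Spec (CommRingCat.of k))} [AlgebraicGeometry.IsIntegral V.left]
    [AlgebraicGeometry.IsIntegral W.left] (g : V ⟶ W) [Surjective g.left] :
    ∃ e : KG W →ₐ[k] KG V, spA e ≫ ξ W = ξ V ≫ g :=
  exists_emb (ξ V ≫ g) (by
    rw [Over.comp_left, Scheme.Hom.comp_apply, ξ_generic, apply_genericPoint])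

theorem ξ_dominant (G : Over (Spec (CommRingCat.of k))) [AlgebraicGeometry.IsIntegral G.left] :
    IsDominant (ξ G).left := by
  refine ⟨dense_iff_closure_eq.2 (Set.univ_subset_iff.1 ?_)⟩
  rw [← (genericPoint_spec G.left).def]
  exact closure_mono (Set.singleton_subset_iff.2 ⟨_, ξ_generic G⟩)

/-- a morphism to a separated scheme is determined at the generic point -/
theorem ext_generic {G Z : Over (Spec (CommRingCat.of k))} [AlgebraicGeometry.IsIntegral G.left] [IsSeparated Z.hom]
    {p q : G ⟶ Z} (h : ξ G ≫ p = ξ G ≫ q) : p = q := by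
  haveI := ξ_dominant G
  exact Over.OverMorphism.ext (ext_of_isDominant_of_isSeparated Z.hom (by rw [Over.w, Over.w]) (ξ G).left
    (congrArg (fun m => m.left) h))

/-- rational maps of a smooth variety into an abelian variety are morphisms -/
theorem exists_ext [IsProper A.hom] [Smooth X.hom] [AlgebraicGeometry.IsIntegral X.left] (φ₀ : SP k (KG X) ⟶ A) :
    ∃ φ : X ⟶ A, ξ X ≫ φ = φ₀ := by
  haveI : LocallyOfFinitePresentation A.hom := inferInstance
  obtain ⟨U, hU, g, hg, hgw⟩ := Groth.L19.SpreadLfp.spread_out' X.hom A.hom (x := genericPoint X.left) φ₀.left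
    ((Over.w φ₀).trans (Groth.L08.Chev.map_algebraMap_St X (genericPoint X.left)))
  haveI : GrpObj (Over.mk A.hom) := ‹GrpObj A›
  have hd : Groth.L26.Weil.FibrewiseDense X.hom U := fun x => by
    have h1 : ((U : Set X.left) ∩ {y | X.hom y = X.hom x}) = U :=
      Set.inter_eq_left.2 fun y _ => Subsingleton.elim (α := PrimeSpectrum k) _ _
    rw [h1]
    exact (U.2.dense ⟨_, hU⟩).closure_eq ▸ Set.mem_univ x
  obtain ⟨φ, ⟨hφ, hφU⟩, -⟩ := Groth.L26.Weil.existsUnique_of_proper (pX := X.hom) (pG := A.hom) hd g hgw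
  refine ⟨Over.homMk φ hφ, Over.OverMorphism.ext ?_⟩
  show (X.left.fromSpecStalk (genericPoint X.left)) ≫ φ = φ₀.left
  rw [hg, ← Scheme.Opens.fromSpecStalkOfMem_ι U _ hU, Category.assoc, hφU]

section Main

variable [IsCommMonObj A] {a : AlgGrp.Action A X} {f : X ⟶ Y} (ht : IsTors a f) {K L : Type u} [Field K] [Algebra k K]
  [Field L] [Algebra k L] [Algebra K L] [IsScalarTower k K L] [FiniteDimensional K L] [Algebra.IsSeparable K L]
  (η₀ : SP k K ⟶ Y) (s : SP k L ⟶ X) (hs : s ≫ f = spA (IsScalarTower.toAlgHom k K L) ≫ η₀)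

/-- equivariance of a map given by the symmetrised difference at the generic point -/
theorem equivariant {F E : Type u} [Field F] [Algebra k F] [Algebra K F] [IsScalarTower k K F] [Field E]
    [Algebra k E] [Algebra K E] [IsScalarTower k K E] (xF : SP k F ⟶ X) (φ₀ : SP k F ⟶ A)
    (hφ₀ : ∀ (Ω : Type u) [Field Ω] [Algebra k Ω] [Algebra K Ω] [IsScalarTower k K Ω] [IsSepClosed Ω]
      (e : F →ₐ[K] Ω) (x : SP k Ω ⟶ X) (hx' : x ≫ f = spA (IsScalarTower.toAlgHom k K Ω) ≫ η₀),
      x = spA (e.restrictScalars k) ≫ xF → spA (e.restrictScalars k) ≫ φ₀ = sym ht η₀ s hs x hx')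
    (hx : xF ≫ f = spA (IsScalarTower.toAlgHom k K F) ≫ η₀)
    (e₁ e₂ : F →ₐ[K] E) (b : SP k E ⟶ A) (h : spA (e₂.restrictScalars k) ≫ xF = lift b (spA (e₁.restrictScalars k) ≫ xF) ≫ a.act) :
    spA (e₂.restrictScalars k) ≫ φ₀ = (spA (e₁.restrictScalars k) ≫ φ₀) * b ^ Module.finrank K L := by
  haveI : IsScalarTower k K (SeparableClosure E) := IsScalarTower.of_algebraMap_eq fun c => by
    rw [IsScalarTower.algebraMap_apply k E, IsScalarTower.algebraMap_apply K E, IsScalarTower.algebraMap_apply k K E]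
  let j : E →ₐ[K] SeparableClosure E := IsScalarTower.toAlgHom K E (SeparableClosure E)
  refine cancel_spA (j.restrictScalars k) ?_
  rw [MonObj.comp_mul, MonObj.comp_pow, ← Category.assoc, ← Category.assoc, ← spA_comp, ← spA_comp]
  have h2 : spA ((j.comp e₂).restrictScalars k) ≫ xF =
      lift (spA (j.restrictScalars k) ≫ b) (spA ((j.comp e₁).restrictScalars k) ≫ xF) ≫ a.act := by
    rw [show (j.comp e₂).restrictScalars k = (j.restrictScalars k).comp (e₂.restrictScalars k) from rfl,
      show (j.comp e₁).restrictScalars k = (j.restrictScalars k).comp (e₁.restrictScalars k) from rfl,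
      spA_comp, spA_comp, Category.assoc, Category.assoc, h, ← Category.assoc, comp_lift]
  have hp₁ := point_fibre η₀ hx (j.comp e₁)
  have hp₂ := point_fibre η₀ hx (j.comp e₂)
  rw [h2] at hp₂
  refine (hφ₀ _ (j.comp e₂) _ hp₂ h2.symm).trans ?_
  rw [sym_act ht η₀ s hs _ _ hp₁ hp₂, ← hφ₀ _ (j.comp e₁) _ hp₁ rfl]
  exact mul_comm _ _

end Main

/-- **Rosenlicht**: a torsor under an abelian variety has a map to it which is a power on the orbits. -/
theorem exists_map [IsProper A.hom] [Smooth A.hom] [ConnectedSpace A.left]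
    [Smooth X.hom] [QuasiCompact X.hom] [GeometricallyIntegral X.hom]
    [IsSeparated Y.hom] [GeometricallyIntegral Y.hom]
    (a : AlgGrp.Action A X) (f : X ⟶ Y) [Flat f.left] [Surjective f.left]
    (hinv : a.act ≫ f = snd A X ≫ f) (htors : IsIso (pullback.lift a.act (snd A X) hinv)) :
    ∃ (φ : X ⟶ A) (n : ℕ), 0 < n ∧
      ∀ (T : Over (Spec (CommRingCat.of k))) (b : T ⟶ A) (x : T ⟶ X), lift b x ≫ a.act ≫ φ = (x ≫ φ) * b ^ n := by
  haveI := Groth.L08.Albanese.geometricallyIntegral_of_smooth A
  haveI : IsCommMonObj A := isCommMonObj_of_isProper_of_geometricallyIntegral A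
  haveI : AlgebraicGeometry.IsIntegral X.left := GeometricallyIntegral.isIntegral_of_subsingleton X.hom
  haveI : AlgebraicGeometry.IsIntegral Y.left := GeometricallyIntegral.isIntegral_of_subsingleton Y.hom
  haveI : QuasiCompact f.left := by
    haveI : QuasiCompact (f.left ≫ Y.hom) := by rw [Over.w]; infer_instance
    exact .of_comp f.left Y.hom
  haveI := IsTors.smooth hinv htors
  have ht := IsTors.of_isIso hinv htors
  obtain ⟨L, _, _, _, _, _, _, s, hs⟩ := exists_sep_point (X := X) (f := f)
  obtain ⟨eX, heX⟩ := exists_emb_of_surjective f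
  letI : Algebra (KG Y) (KG X) := eX.toRingHom.toAlgebra
  haveI : IsScalarTower k (KG Y) (KG X) := IsScalarTower.of_algebraMap_eq fun c => (eX.commutes c).symm
  have hx : ξ X ≫ f = spA (IsScalarTower.toAlgHom k (KG Y) (KG X)) ≫ ξ Y := heX.symm
  obtain ⟨φ₀, hφ₀⟩ := exists_sym ht (ξ Y) s hs (ξ X) hx
  obtain ⟨φ, hφ⟩ := exists_ext φ₀
  refine ⟨φ, Module.finrank (KG Y) L, Module.finrank_pos, ?_⟩
  haveI : IsLocallyNoetherian X.left := LocallyOfFiniteType.isLocallyNoetherian X.hom
  haveI : AlgebraicGeometry.IsIntegral (A ⊗ X).left :=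
    inferInstanceAs (AlgebraicGeometry.IsIntegral (pullback A.hom X.hom))
  haveI : Surjective (snd A X).left :=
    MorphismProperty.of_isPullback (P := @Surjective) (Groth.L25.Actions.isPullback_snd A X)
      (Groth.L25.Actions.surjective_grp A)
  haveI : Surjective a.act.left := Groth.L25.Actions.act_of_hom a @Surjective (Groth.L25.Actions.surjective_grp A)
  obtain ⟨d₁, hd₁⟩ := exists_emb_of_surjective (snd A X)
  obtain ⟨d₂, hd₂⟩ := exists_emb_of_surjective a.act
  have hd : d₁.comp eX = d₂.comp eX := hom_ext_St (by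
    rw [spA_comp, spA_comp, Category.assoc, Category.assoc, heX, ← Category.assoc, ← Category.assoc, hd₁, hd₂,
      Category.assoc, Category.assoc, hinv])
  letI : Algebra (KG Y) (KG (A ⊗ X)) := (d₁.comp eX).toRingHom.toAlgebra
  haveI : IsScalarTower k (KG Y) (KG (A ⊗ X)) :=
    IsScalarTower.of_algebraMap_eq fun c => ((d₁.comp eX).commutes c).symm
  let e₁ : KG X →ₐ[KG Y] KG (A ⊗ X) := { d₁ with commutes' := fun _ => rfl }
  let e₂ : KG X →ₐ[KG Y] KG (A ⊗ X) :=
    { d₂ with commutes' := fun c => (DFunLike.congr_fun hd c).symm }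
  have he₁ : e₁.restrictScalars k = d₁ := AlgHom.ext fun _ => rfl
  have he₂ : e₂.restrictScalars k = d₂ := AlgHom.ext fun _ => rfl
  have key := equivariant ht (ξ Y) s hs (ξ X) φ₀ hφ₀ hx e₁ e₂ (ξ (A ⊗ X) ≫ fst A X)
    (by rw [he₁, he₂, hd₁, hd₂, ← comp_lift, lift_fst_snd, Category.comp_id])
  rw [he₁, he₂, ← hφ, ← Category.assoc, ← Category.assoc, hd₁, hd₂, Category.assoc, Category.assoc,
    ← MonObj.comp_pow, ← MonObj.comp_mul] at key
  intro T b x
  rw [ext_generic key, MonObj.comp_mul, MonObj.comp_pow, lift_snd_assoc, lift_fst]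

end Groth.L08.Rosen
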