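import Groth.Agent.L08.Rosen.Torsor
import Groth.Agent.L21.Smooth.SepPoints
import Groth.Agent.L19.SpreadLfp
import Groth.Agent.L26.Weil.Apply
import Groth.Agent.L08.Albanese.ChowImage
import Mathlib.AlgebraicGeometry.Group.Abelian

/-!
# A map to the group from a torsor under an abelian variety (Rosenlicht)
-/

set_option autoImplicit false
set_option backward.isDefEq.respectTransparency.types false
set_option linter.style.haveILetI false
set_option linter.unusedSectionVars false

universe u

open CategoryTheory CategoryTheory.Limits MonoidalCategory CartesianMonoidalCategory MonObj GrpObj AlgebraicGeometry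
open Groth.L08.Chev (SP spA spA_comp St ptSt exists_hom_St hom_ext_St KG ξ exists_emb)

noncomputable section

namespace Groth.L08.Rosen

variable {k : Type u} [Field k] {A X Y : Over (Spec (CommRingCat.of k))} [GrpObj A]
  {a : AlgGrp.Action A X} {f : X ⟶ Y}

/-- the morphism of a torsor under a smooth group is smooth -/
theorem IsTors.smooth [Smooth A.hom] [Flat f.left] [Surjective f.left] [QuasiCompact f.left]
    (hinv : a.act ≫ f = snd A X ≫ f) (h : IsIso (pullback.lift a.act (snd A X) hinv)) : Smooth f.left := by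
  haveI := h
  let e := pullback.lift a.act (snd A X) hinv
  have hpb : IsPullback (pullback.fst f f).left (pullback.snd f f).left f.left f.left :=
    (IsPullback.of_hasPullback f f).map (Over.forget _)
  have hs : Smooth (pullback.snd f f).left := by
    have he : pullback.snd f f = CategoryTheory.inv e ≫ snd A X := by
      rw [IsIso.eq_inv_comp]; exact pullback.lift_snd _ _ _
    haveI : Smooth (snd A X).left :=
      MorphismProperty.of_isPullback (P := @Smooth) (Groth.L25.Actions.isPullback_snd A X) ‹Smooth A.hom›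
    haveI : IsIso (CategoryTheory.inv e).left := inferInstanceAs (IsIso ((Over.forget _).map (CategoryTheory.inv e)))
    rw [he, Over.comp_left]; infer_instance
  exact MorphismProperty.of_isPullback_of_descendsAlong (P := @Smooth)
    (Q := @Surjective ⊓ @Flat ⊓ @QuasiCompact) hpb.flip ⟨⟨‹_›, ‹_›⟩, ‹_›⟩ hs

/-- finite separable points of the generic fibre -/
theorem exists_sep_point [AlgebraicGeometry.IsIntegral Y.left] [Smooth f.left] [Surjective f.left] :
    ∃ (L : Type u) (_ : Field L) (_ : Algebra k L) (_ : Algebra (KG Y) L) (_ : IsScalarTower k (KG Y) L)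
      (_ : FiniteDimensional (KG Y) L) (_ : Algebra.IsSeparable (KG Y) L) (s : SP k L ⟶ X),
      s ≫ f = spA (IsScalarTower.toAlgHom k (KG Y) L) ≫ ξ Y := by
  let P : Scheme.{u} := pullback f.left (ξ Y).left
  letI : P.Over (Spec (CommRingCat.of (KG Y))) := ⟨pullback.snd f.left (ξ Y).left⟩
  haveI : Smooth (P ↘ Spec (CommRingCat.of (KG Y))) := inferInstanceAs (Smooth (pullback.snd f.left (ξ Y).left))
  haveI : Nonempty P := by
    let c : ↥(SP k (KG Y)).left := IsLocalRing.closedPoint (KG Y)
    obtain ⟨x, hx⟩ := f.left.surjective ((ξ Y).left c)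
    obtain ⟨z, -, -⟩ := Scheme.Pullback.exists_preimage_pullback (f := f.left) (g := (ξ Y).left) x c hx
    exact ⟨z⟩
  obtain ⟨z, ⟨-, hfin, hsep⟩, -⟩ := (Groth.L21.SepPoints.dense_separable_points (k := KG Y) P).inter_open_nonempty
    Set.univ isOpen_univ Set.univ_nonempty |>.imp fun z h => (And.intro h.2 h.1)
  letI := Curv2.resAlgebra (KG Y) P z
  letI : Algebra k (P.residueField z) := ((algebraMap (KG Y) (P.residueField z)).comp (algebraMap k (KG Y))).toAlgebra
  haveI : IsScalarTower k (KG Y) (P.residueField z) := IsScalarTower.of_algebraMap_eq' rfl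
  have hK : Spec.map (CommRingCat.ofHom (algebraMap (KG Y) (P.residueField z))) =
      P.fromSpecResidueField z ≫ pullback.snd f.left (ξ Y).left :=
    Groth.L22.FibreDim.SpecMap_resMap (KG Y) P z
  have hw : (P.fromSpecResidueField z ≫ pullback.fst f.left (ξ Y).left) ≫ X.hom =
      Spec.map (CommRingCat.ofHom (algebraMap k (P.residueField z))) := by
    rw [← Over.w f, Category.assoc, pullback.condition_assoc, Over.w (ξ Y), ← reassoc_of% hK]
    show _ ≫ Spec.map _ = _
    rw [← Spec.map_comp]
    rfl
  refine ⟨P.residueField z, inferInstance, ‹_›, ‹_›, ‹_›, hfin, hsep,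
    Over.homMk (P.fromSpecResidueField z ≫ pullback.fst f.left (ξ Y).left) (by exact hw), Over.OverMorphism.ext ?_⟩
  show (P.fromSpecResidueField z ≫ pullback.fst f.left (ξ Y).left) ≫ f.left = Spec.map _ ≫ (ξ Y).left
  rw [Category.assoc, pullback.condition, ← Category.assoc, ← hK]
  rfl

theorem cancel_spA {F Ω : Type u} [Field F] [Algebra k F] [Field Ω] [Algebra k Ω] {Z : Over (Spec (CommRingCat.of k))}
    (j : F →ₐ[k] Ω) {p q : SP k F ⟶ Z} (h : spA j ≫ p = spA j ≫ q) : p = q := by
  obtain ⟨e, -, he⟩ := exists_hom_St p rfl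
  obtain ⟨e', -, he'⟩ := exists_hom_St (x := p.left (IsLocalRing.closedPoint F)) q (by
    have h1 := congrArg (fun m => m.left (IsLocalRing.closedPoint Ω)) h
    have h2 : (spA j).left (IsLocalRing.closedPoint Ω) = IsLocalRing.closedPoint F :=
      Subsingleton.elim (α := PrimeSpectrum F) _ _
    simp only [Over.comp_left, Scheme.Hom.comp_apply] at h1
    rw [h2] at h1
    exact h1.symm)
  have h3 : j.comp e = j.comp e' := hom_ext_St (by
    rw [spA_comp, spA_comp, Category.assoc, Category.assoc, he, he', h])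
  rw [← he, ← he', AlgHom.ext fun z => j.toRingHom.injective (DFunLike.congr_fun h3 z)]

section Sym

variable (ht : IsTors a f) [IsCommMonObj A] {K L : Type u} [Field K] [Algebra k K] [Field L] [Algebra k L]
  [Algebra K L] [IsScalarTower k K L] [FiniteDimensional K L] [Algebra.IsSeparable K L]
  (η₀ : SP k K ⟶ Y) (s : SP k L ⟶ X) (hs : s ≫ f = spA (IsScalarTower.toAlgHom k K L) ≫ η₀)

theorem point_fibre {F : Type u} [Field F] [Algebra k F] [Algebra K F] [IsScalarTower k K F]
    {xF : SP k F ⟶ X} (hx : xF ≫ f = spA (IsScalarTower.toAlgHom k K F) ≫ η₀)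
    {Ω : Type u} [Field Ω] [Algebra k Ω] [Algebra K Ω] [IsScalarTower k K Ω] (e : F →ₐ[K] Ω) :
    (spA (e.restrictScalars k) ≫ xF) ≫ f = spA (IsScalarTower.toAlgHom k K Ω) ≫ η₀ := by
  rw [Category.assoc, hx, ← Category.assoc, ← spA_comp]
  congr 2
  exact AlgHom.ext fun c => e.commutes c

/-- the symmetrised difference at a point with values in any field -/
theorem exists_sym {F : Type u} [Field F] [Algebra k F] [Algebra K F] [IsScalarTower k K F]
    (xF : SP k F ⟶ X) (hx : xF ≫ f = spA (IsScalarTower.toAlgHom k K F) ≫ η₀) :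
    ∃ φ₀ : SP k F ⟶ A, ∀ (Ω : Type u) [Field Ω] [Algebra k Ω] [Algebra K Ω] [IsScalarTower k K Ω] [IsSepClosed Ω]
      (e : F →ₐ[K] Ω) (x : SP k Ω ⟶ X) (hx' : x ≫ f = spA (IsScalarTower.toAlgHom k K Ω) ≫ η₀),
      x = spA (e.restrictScalars k) ≫ xF → spA (e.restrictScalars k) ≫ φ₀ = sym ht η₀ s hs x hx' := by
  haveI : IsScalarTower k K (SeparableClosure F) := IsScalarTower.of_algebraMap_eq fun c => by
    rw [IsScalarTower.algebraMap_apply k F, IsScalarTower.algebraMap_apply K F, IsScalarTower.algebraMap_apply k K F]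
  let j : F →ₐ[K] SeparableClosure F := IsScalarTower.toAlgHom K F (SeparableClosure F)
  have hj : j.restrictScalars k = IsScalarTower.toAlgHom k F (SeparableClosure F) := rfl
  obtain ⟨q, hq⟩ := exists_descend_fixed (sym ht η₀ s hs _ (point_fibre η₀ hx j)) fun σ =>
    comp_sym ht η₀ s hs (σ.toAlgHom.restrictScalars K) _ _ _ (point_fibre η₀ hx j) (by
      rw [← Category.assoc, ← spA_comp]
      congr 2
      exact AlgHom.ext fun c => (σ.commutes c).symm)
  refine ⟨q, fun Ω _ _ _ _ _ e x hx' hxe => ?_⟩
  letI : Algebra F Ω := e.toRingHom.toAlgebra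
  haveI : IsScalarTower K F Ω := IsScalarTower.of_algebraMap_eq fun c => (e.commutes c).symm
  let σ : SeparableClosure F →ₐ[F] Ω := IsSepClosed.lift
  have hσ : e.restrictScalars k = ((σ.restrictScalars K).restrictScalars k).comp (j.restrictScalars k) :=
    AlgHom.ext fun c => (σ.commutes c).symm
  rw [hσ, spA_comp, Category.assoc, hj, hq]
  exact comp_sym ht η₀ s hs (σ.restrictScalars K) _ _ _ hx' (by
    rw [hxe, hσ, spA_comp, Category.assoc])

end Sym

end Groth.L08.Rosen
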