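import Groth.Agent.L08.Chev.Gen
import Groth.Agent.L08.Chev.Pair
import Groth.Agent.L25.Actions
import Mathlib.FieldTheory.IsSepClosed
import Mathlib.FieldTheory.Galois.Infinite
import Mathlib.FieldTheory.PrimitiveElement

/-!
# Torsors: differences of points and symmetrisation over a separable point
-/

set_option autoImplicit false
set_option backward.isDefEq.respectTransparency.types false
set_option linter.style.haveILetI false
set_option linter.unusedSectionVars false

universe u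

open CategoryTheory CategoryTheory.Limits MonoidalCategory CartesianMonoidalCategory MonObj GrpObj AlgebraicGeometry
open Groth.L08.Chev (SP spA spA_comp St ptSt exists_hom_St hom_ext_St)

noncomputable section

namespace Groth.L08.Rosen

variable {k : Type u} [Field k] {A X Y : Over (Spec (CommRingCat.of k))} [GrpObj A]

/-- pseudo-torsor over `f` -/
structure IsTors (a : AlgGrp.Action A X) (f : X ⟶ Y) : Prop where
  inv : a.act ≫ f = snd A X ≫ f
  ex : ∀ {T : Over (Spec (CommRingCat.of k))} (y x : T ⟶ X), y ≫ f = x ≫ f → ∃ b : T ⟶ A, lift b x ≫ a.act = y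
  uniq : ∀ {T : Over (Spec (CommRingCat.of k))} (b b' : T ⟶ A) (x : T ⟶ X),
    lift b x ≫ a.act = lift b' x ≫ a.act → b = b'

theorem IsTors.of_isIso {a : AlgGrp.Action A X} {f : X ⟶ Y} (hinv : a.act ≫ f = snd A X ≫ f)
    (h : IsIso (pullback.lift a.act (snd A X) hinv)) : IsTors a f := by
  haveI := h
  let e := pullback.lift a.act (snd A X) hinv
  have e1 : e ≫ pullback.fst f f = a.act := pullback.lift_fst _ _ _
  have e2 : e ≫ pullback.snd f f = snd A X := pullback.lift_snd _ _ _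
  refine ⟨hinv, fun {T} y x hyx => ⟨(pullback.lift y x hyx ≫ CategoryTheory.inv e) ≫ fst A X, ?_⟩,
    fun {T} b b' x hb => ?_⟩
  · let t := pullback.lift y x hyx ≫ CategoryTheory.inv e
    have ht : t ≫ e = pullback.lift y x hyx := by simp [t]
    have h2 : t ≫ snd A X = x := by
      rw [← e2, ← Category.assoc, ht, pullback.lift_snd]
    have h1 : t ≫ a.act = y := by
      rw [← e1, ← Category.assoc, ht, pullback.lift_fst]
    show lift (t ≫ fst A X) x ≫ a.act = y
    rw [← h2, show lift (t ≫ fst A X) (t ≫ snd A X) = t from (CartesianMonoidalCategory.hom_ext _ _ (by simp) (by simp)), h1]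
  · have h2 : lift b x ≫ e = lift b' x ≫ e := by
      refine pullback.hom_ext ?_ ?_
      · rw [Category.assoc, Category.assoc, e1, hb]
      · rw [Category.assoc, Category.assoc, e2, lift_snd, lift_snd]
    rw [cancel_mono] at h2
    simpa using congrArg (fun m => m ≫ fst A X) h2

variable {a : AlgGrp.Action A X} {f : X ⟶ Y} (ht : IsTors a f) {T : Over (Spec (CommRingCat.of k))}

/-- the difference of two points of a fibre -/
def IsTors.sub (y x : T ⟶ X) (e : y ≫ f = x ≫ f) : T ⟶ A := (ht.ex y x e).choose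

theorem IsTors.sub_act (y x : T ⟶ X) (e : y ≫ f = x ≫ f) : lift (ht.sub y x e) x ≫ a.act = y :=
  (ht.ex y x e).choose_spec

theorem IsTors.act_comp (ht : IsTors a f) (b : T ⟶ A) (y : T ⟶ X) : (lift b y ≫ a.act) ≫ f = y ≫ f := by
  rw [Category.assoc, ht.inv, lift_snd_assoc]

theorem IsTors.sub_lift (b : T ⟶ A) (y x : T ⟶ X) (e : (lift b y ≫ a.act) ≫ f = x ≫ f) (e' : y ≫ f = x ≫ f) :
    ht.sub (lift b y ≫ a.act) x e = b * ht.sub y x e' :=
  ht.uniq _ _ x (by rw [ht.sub_act, Groth.L25.Actions.mul_act, ht.sub_act])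

theorem IsTors.comp_sub {T' : Over (Spec (CommRingCat.of k))} (t : T' ⟶ T) (y x : T ⟶ X) (e : y ≫ f = x ≫ f)
    (e' : (t ≫ y) ≫ f = (t ≫ x) ≫ f) : t ≫ ht.sub y x e = ht.sub (t ≫ y) (t ≫ x) e' :=
  ht.uniq _ _ (t ≫ x) (by rw [ht.sub_act, ← comp_lift, Category.assoc, ht.sub_act])

theorem IsTors.sub_congr {y y' x x' : T ⟶ X} (hy : y = y') (hx : x = x') (e : y ≫ f = x ≫ f) :
    ht.sub y x e = ht.sub y' x' (hy ▸ hx ▸ e) := by
  subst hy hx; rfl

variable [IsCommMonObj A] {K L : Type u} [Field K] [Algebra k K] [Field L] [Algebra k L] [Algebra K L]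
  [IsScalarTower k K L] [FiniteDimensional K L]
  (η₀ : SP k K ⟶ Y) (s : SP k L ⟶ X) (hs : s ≫ f = spA (IsScalarTower.toAlgHom k K L) ≫ η₀)

include hs in
theorem fibre_eq {Ω : Type u} [Field Ω] [Algebra k Ω] [Algebra K Ω] [IsScalarTower k K Ω] (τ : L →ₐ[K] Ω)
    {x : SP k Ω ⟶ X} (hx : x ≫ f = spA (IsScalarTower.toAlgHom k K Ω) ≫ η₀) :
    x ≫ f = (spA (τ.restrictScalars k) ≫ s) ≫ f := by
  rw [hx, Category.assoc, hs, ← Category.assoc, ← spA_comp]
  congr 2
  exact AlgHom.ext fun c => (τ.commutes c).symm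

theorem comp_prod {T T' : Over (Spec (CommRingCat.of k))} (t : T' ⟶ T) {I : Type u} [Fintype I] (g : I → (T ⟶ A)) :
    t ≫ (∏ i, g i) = ∏ i, t ≫ g i := by
  classical
  refine Finset.induction_on (Finset.univ : Finset I) (by simp) fun i S hi ih => ?_
  rw [Finset.prod_insert hi, Finset.prod_insert hi, MonObj.comp_mul, ih]

theorem prod_mul_const {T : Over (Spec (CommRingCat.of k))} {I : Type u} [Fintype I] (b : T ⟶ A) (g g' : I → (T ⟶ A))
    (h : ∀ i, g' i = b * g i) : ∏ i, g' i = b ^ Fintype.card I * ∏ i, g i := by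
  rw [Finset.prod_congr rfl fun i _ => h i, Finset.prod_mul_distrib, Finset.prod_const, Finset.card_univ]

/-- symmetrised difference with the conjugates of a finite point -/
def sym {Ω : Type u} [Field Ω] [Algebra k Ω] [Algebra K Ω] [IsScalarTower k K Ω] (x : SP k Ω ⟶ X)
    (hx : x ≫ f = spA (IsScalarTower.toAlgHom k K Ω) ≫ η₀) : SP k Ω ⟶ A :=
  ∏ τ : L →ₐ[K] Ω, ht.sub x (spA (τ.restrictScalars k) ≫ s) (fibre_eq η₀ s hs τ hx)

theorem sym_congr {Ω : Type u} [Field Ω] [Algebra k Ω] [Algebra K Ω] [IsScalarTower k K Ω] {x x' : SP k Ω ⟶ X}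
    (h : x = x') (hx : x ≫ f = spA (IsScalarTower.toAlgHom k K Ω) ≫ η₀) :
    sym ht η₀ s hs x hx = sym ht η₀ s hs x' (h ▸ hx) := by
  subst h; rfl

variable [Algebra.IsSeparable K L]

variable (K L) in
theorem card_embeddings (Ω : Type u) [Field Ω] [Algebra K Ω] [IsSepClosed Ω] :
    Fintype.card (L →ₐ[K] Ω) = Module.finrank K L :=
  AlgHom.card_of_splits _ _ _ fun x => IsSepClosed.splits_codomain _ (Algebra.IsSeparable.isSeparable K x)

theorem comp_prod_bij {T T' : Over (Spec (CommRingCat.of k))} (t : T' ⟶ T) {I J : Type u} [Fintype I] [Fintype J]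
    (g : I → (T ⟶ A)) (g' : J → (T' ⟶ A)) (e : I → J) (he : Function.Bijective e) (h : ∀ i, t ≫ g i = g' (e i)) :
    t ≫ (∏ i, g i) = ∏ j, g' j := by
  rw [comp_prod]; exact Fintype.prod_bijective e he _ _ h

variable (K L) in
theorem comp_bijective {Ω Ω' : Type u} [Field Ω] [Algebra K Ω] [IsSepClosed Ω] [Field Ω'] [Algebra K Ω'] [IsSepClosed Ω']
    (σ : Ω →ₐ[K] Ω') : Function.Bijective fun τ : L →ₐ[K] Ω => σ.comp τ :=
  (Fintype.bijective_iff_injective_and_card _).2 ⟨fun τ τ' h => AlgHom.ext fun l => σ.toRingHom.injective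
    (DFunLike.congr_fun h l), (card_embeddings K L Ω).trans (card_embeddings K L Ω').symm⟩

theorem conj_assoc {Ω Ω' : Type u} [Field Ω] [Algebra k Ω] [Algebra K Ω] [IsScalarTower k K Ω]
    [Field Ω'] [Algebra k Ω'] [Algebra K Ω'] [IsScalarTower k K Ω'] (σ : Ω →ₐ[K] Ω') (τ : L →ₐ[K] Ω) :
    spA (σ.restrictScalars k) ≫ spA (τ.restrictScalars k) ≫ s = spA ((σ.comp τ).restrictScalars k) ≫ s := by
  rw [← Category.assoc, ← spA_comp]
  rfl

theorem comp_sym {Ω Ω' : Type u} [Field Ω] [Algebra k Ω] [Algebra K Ω] [IsScalarTower k K Ω] [IsSepClosed Ω]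
    [Field Ω'] [Algebra k Ω'] [Algebra K Ω'] [IsScalarTower k K Ω'] [IsSepClosed Ω']
    (σ : Ω →ₐ[K] Ω') (x : SP k Ω ⟶ X) (hx : x ≫ f = spA (IsScalarTower.toAlgHom k K Ω) ≫ η₀)
    (x' : SP k Ω' ⟶ X) (hx' : x' ≫ f = spA (IsScalarTower.toAlgHom k K Ω') ≫ η₀)
    (h : x' = spA (σ.restrictScalars k) ≫ x) :
    spA (σ.restrictScalars k) ≫ sym ht η₀ s hs x hx = sym ht η₀ s hs x' hx' :=
  comp_prod_bij _ _ _ _ (comp_bijective K L σ) fun τ => by
    have e1 : (spA (σ.restrictScalars k) ≫ x) ≫ f =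
        (spA (σ.restrictScalars k) ≫ spA (τ.restrictScalars k) ≫ s) ≫ f := by
      rw [Category.assoc, Category.assoc (spA (σ.restrictScalars k)), fibre_eq η₀ s hs τ hx]
    rw [ht.comp_sub _ _ _ _ e1]
    exact ht.sub_congr h.symm (conj_assoc s σ τ) _

theorem sym_act {Ω : Type u} [Field Ω] [Algebra k Ω] [Algebra K Ω] [IsScalarTower k K Ω] [IsSepClosed Ω]
    (b : SP k Ω ⟶ A) (x : SP k Ω ⟶ X) (hx : x ≫ f = spA (IsScalarTower.toAlgHom k K Ω) ≫ η₀)
    (hx' : (lift b x ≫ a.act) ≫ f = spA (IsScalarTower.toAlgHom k K Ω) ≫ η₀) :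
    sym ht η₀ s hs (lift b x ≫ a.act) hx' = b ^ Module.finrank K L * sym ht η₀ s hs x hx := by
  rw [← card_embeddings K L Ω]
  exact prod_mul_const b _ _ fun τ => ht.sub_lift b x (spA (τ.restrictScalars k) ≫ s)
    (fibre_eq η₀ s hs τ hx') (fibre_eq η₀ s hs τ hx)

/-- a point fixed by the Galois group is rational -/
theorem exists_descend_fixed {F : Type u} [Field F] [Algebra k F] {Z : Over (Spec (CommRingCat.of k))}
    (p : SP k (SeparableClosure F) ⟶ Z)
    (hp : ∀ σ : SeparableClosure F ≃ₐ[F] SeparableClosure F, spA (σ.toAlgHom.restrictScalars k) ≫ p = p) :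
    ∃ q : SP k F ⟶ Z, spA (IsScalarTower.toAlgHom k F (SeparableClosure F)) ≫ q = p := by
  obtain ⟨e, -, he⟩ := exists_hom_St p rfl
  let j := IsScalarTower.toAlgHom k F (SeparableClosure F)
  have hfix : ∀ z, e z ∈ j.range := fun z => by
    have h1 : ∀ σ : SeparableClosure F ≃ₐ[F] SeparableClosure F, σ (e z) = e z := fun σ => by
      have h2 : (σ.toAlgHom.restrictScalars k).comp e = e := hom_ext_St (by
        rw [spA_comp, Category.assoc, he, hp σ])
      exact DFunLike.congr_fun h2 z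
    obtain ⟨c, hc⟩ := IntermediateField.mem_bot.1 ((InfiniteGalois.mem_bot_iff_fixed (e z)).2 h1)
    exact ⟨c, hc⟩
  let e' : St Z _ →ₐ[k] F := (AlgEquiv.ofInjective j j.toRingHom.injective).symm.toAlgHom.comp (e.codRestrict _ hfix)
  refine ⟨spA e' ≫ ptSt Z _, ?_⟩
  rw [← Category.assoc, ← spA_comp]
  refine Eq.trans ?_ he
  congr 2
  refine AlgHom.ext fun z => ?_
  show ((AlgEquiv.ofInjective j j.toRingHom.injective) ((AlgEquiv.ofInjective j j.toRingHom.injective).symm
    ⟨e z, hfix z⟩) : SeparableClosure F) = e z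
  rw [AlgEquiv.apply_symm_apply]

end Groth.L08.Rosen
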